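import Cfsg.Agent.H16.P.ON.D

/-! Generated by tools/h16 (computation kit). -/

set_option maxRecDepth 100000
set_option maxHeartbeats 0

namespace H16.PON

open H26 (jn)
theorem wf_0 : n0.wf (nat_lit 122760) = true := by decide +kernel
theorem wf_1 : n1.wf (nat_lit 122760) = true := by decide +kernel
theorem wf_2 : n2.wf (nat_lit 122760) = true := by decide +kernel
theorem wf_3 : n3.wf (nat_lit 122760) = true := by decide +kernel
theorem wf_4 : n4.wf (nat_lit 122760) = true := by decide +kernel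
theorem wf_5 : n5.wf (nat_lit 122760) = true := by decide +kernel
theorem wf_6 : n6.wf (nat_lit 122760) = true := by decide +kernel
theorem wf_7 : n7.wf (nat_lit 122760) = true := by decide +kernel
theorem lgc : T.n ≤ 2 ^ (nat_lit 17) := by decide +kernel
theorem rels_0 : relS T (nat_lit 17) Rl (nat_lit 0) = true := by decide +kernel
theorem rels_1 : relS T (nat_lit 17) Rl (nat_lit 1) = true := by decide +kernel
theorem rels_2 : relS T (nat_lit 17) Rl (nat_lit 2) = true := by decide +kernel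
theorem rels_3 : relS T (nat_lit 17) Rl (nat_lit 3) = true := by decide +kernel
theorem rels_4 : relS T (nat_lit 17) Rl (nat_lit 4) = true := by decide +kernel
theorem rels_5 : relS T (nat_lit 17) Rl (nat_lit 5) = true := by decide +kernel
theorem rels_6 : relS T (nat_lit 17) Rl (nat_lit 6) = true := by decide +kernel
theorem rels_7 : relS T (nat_lit 17) Rl (nat_lit 7) = true := by decide +kernel
theorem rels_8 : relS T (nat_lit 17) Rl (nat_lit 8) = true := by decide +kernel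
theorem rels_9 : relS T (nat_lit 17) Rl (nat_lit 9) = true := by decide +kernel
theorem rels_10 : relS T (nat_lit 17) Rl (nat_lit 10) = true := by decide +kernel
theorem rels_11 : relS T (nat_lit 17) Rl (nat_lit 11) = true := by decide +kernel
theorem rels_12 : relS T (nat_lit 17) Rl (nat_lit 12) = true := by decide +kernel
theorem rels_13 : relS T (nat_lit 17) Rl (nat_lit 13) = true := by decide +kernel
theorem rels_14 : relS T (nat_lit 17) Rl (nat_lit 14) = true := by decide +kernel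
theorem rels_15 : relS T (nat_lit 17) Rl (nat_lit 15) = true := by decide +kernel
theorem rels_16 : relS T (nat_lit 17) Rl (nat_lit 16) = true := by decide +kernel
theorem transc : Nat.beq (reachW T (lets (nat_lit 8)) [nat_lit 6, nat_lit 0, nat_lit 1, nat_lit 4, nat_lit 5, nat_lit 6, nat_lit 0, nat_lit 1, nat_lit 2, nat_lit 3, nat_lit 0, nat_lit 4, nat_lit 5, nat_lit 6, nat_lit 1, nat_lit 0, nat_lit 5, nat_lit 6, nat_lit 4, nat_lit 1, nat_lit 0, nat_lit 5, nat_lit 6, nat_lit 1, nat_lit 3, nat_lit 5, nat_lit 6, nat_lit 4, nat_lit 0, nat_lit 1] (maskL [0])) (H26.full T.n) = true := by decide +kernel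
theorem w1c : allL (ltAll 8) W1 = true ∧ fixS T W1 [0] = true := by decide +kernel
theorem lvU0 : levS T (nat_lit 6139) W1 [] (nat_lit 9) [nat_lit 0, nat_lit 1, nat_lit 3, nat_lit 4, nat_lit 5, nat_lit 6, nat_lit 7, nat_lit 8] [nat_lit 6, nat_lit 2, nat_lit 4, nat_lit 3, nat_lit 2, nat_lit 6, nat_lit 7, nat_lit 5, nat_lit 3, nat_lit 2, nat_lit 4, nat_lit 3, nat_lit 7, nat_lit 6, nat_lit 2, nat_lit 4, nat_lit 5, nat_lit 3, nat_lit 6, nat_lit 2, nat_lit 6, nat_lit 4, nat_lit 3, nat_lit 7, nat_lit 2, nat_lit 6, nat_lit 3, nat_lit 5, nat_lit 2, nat_lit 3, nat_lit 7, nat_lit 6, nat_lit 4, nat_lit 5, nat_lit 1, nat_lit 3, nat_lit 7, nat_lit 6, nat_lit 5, nat_lit 0] (nat_lit 5586) = true := by decide +kernel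
theorem lvU1 : levS T (nat_lit 6139) W1 [nat_lit 9] (nat_lit 94721) [nat_lit 0, nat_lit 1, nat_lit 3] [nat_lit 2, nat_lit 1, nat_lit 2, nat_lit 1, nat_lit 2, nat_lit 1, nat_lit 2, nat_lit 1, nat_lit 0, nat_lit 2, nat_lit 1, nat_lit 2, nat_lit 1, nat_lit 2, nat_lit 0, nat_lit 2, nat_lit 1, nat_lit 2] (nat_lit 336) = true := by decide +kernel
theorem lvU2 : levS T (nat_lit 6139) W1 [nat_lit 94721, nat_lit 9] (nat_lit 299) [nat_lit 0] [nat_lit 0] (nat_lit 2) = true := by decide +kernel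
theorem cov : Nat.beq (reachW T W1 [nat_lit 7, nat_lit 3, nat_lit 4, nat_lit 8, nat_lit 5, nat_lit 3, nat_lit 7, nat_lit 4, nat_lit 6, nat_lit 3, nat_lit 5, nat_lit 8, nat_lit 4, nat_lit 7, nat_lit 8, nat_lit 6, nat_lit 3, nat_lit 5, nat_lit 7, nat_lit 4, nat_lit 8, nat_lit 3, nat_lit 5, nat_lit 6, nat_lit 4, nat_lit 7, nat_lit 5, nat_lit 3, nat_lit 8, nat_lit 4, nat_lit 7, nat_lit 6, nat_lit 8, nat_lit 3, nat_lit 5, nat_lit 7, nat_lit 6, nat_lit 4, nat_lit 5, nat_lit 3, nat_lit 8, nat_lit 7, nat_lit 4, nat_lit 3, nat_lit 8, nat_lit 4, nat_lit 8, nat_lit 3, nat_lit 7, nat_lit 0] (maskL (0 :: [nat_lit 1, nat_lit 9, nat_lit 16, nat_lit 32]))) (H26.full T.n) = true := by decide +kernel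
theorem prm32 : primS T (nat_lit 8) W1 (nat_lit 32) [nat_lit 6, nat_lit 0, nat_lit 5, nat_lit 6] [nat_lit 0, nat_lit 5, nat_lit 7, nat_lit 8, nat_lit 4, nat_lit 6, nat_lit 9, nat_lit 5, nat_lit 8, nat_lit 7, nat_lit 9, nat_lit 4, nat_lit 6, nat_lit 7, nat_lit 8, nat_lit 5, nat_lit 6, nat_lit 9, nat_lit 4, nat_lit 7, nat_lit 5, nat_lit 8, nat_lit 0, nat_lit 9, nat_lit 8, nat_lit 5, nat_lit 4, nat_lit 6, nat_lit 9, nat_lit 5, nat_lit 8, nat_lit 4, nat_lit 9, nat_lit 7, nat_lit 0] = true := by decide +kernel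
theorem prm16 : primS T (nat_lit 8) W1 (nat_lit 16) [nat_lit 6, nat_lit 4, nat_lit 6] [nat_lit 0, nat_lit 4, nat_lit 6, nat_lit 5, nat_lit 8, nat_lit 4, nat_lit 9, nat_lit 6, nat_lit 7, nat_lit 8, nat_lit 5, nat_lit 6, nat_lit 4, nat_lit 9, nat_lit 8, nat_lit 5, nat_lit 7, nat_lit 6, nat_lit 4, nat_lit 9, nat_lit 0, nat_lit 8, nat_lit 4, nat_lit 5, nat_lit 9, nat_lit 8, nat_lit 6, nat_lit 4, nat_lit 7, nat_lit 8, nat_lit 5, nat_lit 4, nat_lit 9, nat_lit 6, nat_lit 5, nat_lit 0, nat_lit 4, nat_lit 8, nat_lit 2] = true := by decide +kernel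
theorem prm9 : primS T (nat_lit 8) W1 (nat_lit 9) [nat_lit 6, nat_lit 0, nat_lit 6] [nat_lit 0, nat_lit 8, nat_lit 4, nat_lit 6, nat_lit 5, nat_lit 4, nat_lit 8, nat_lit 9, nat_lit 7, nat_lit 5, nat_lit 4, nat_lit 6, nat_lit 5, nat_lit 9, nat_lit 8, nat_lit 4, nat_lit 6, nat_lit 7, nat_lit 5, nat_lit 8, nat_lit 4, nat_lit 0, nat_lit 8, nat_lit 6, nat_lit 4, nat_lit 5, nat_lit 9, nat_lit 8, nat_lit 4, nat_lit 5, nat_lit 7, nat_lit 8, nat_lit 4, nat_lit 9, nat_lit 6, nat_lit 8, nat_lit 5, nat_lit 0, nat_lit 8, nat_lit 6, nat_lit 4, nat_lit 5, nat_lit 9, nat_lit 8, nat_lit 4, nat_lit 0] = true := by decide +kernel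
theorem prm1 : primS T (nat_lit 8) W1 (nat_lit 1) [nat_lit 6] [nat_lit 0, nat_lit 4, nat_lit 5, nat_lit 8, nat_lit 9, nat_lit 0, nat_lit 4, nat_lit 5, nat_lit 6, nat_lit 7, nat_lit 4, nat_lit 8, nat_lit 9, nat_lit 0, nat_lit 5, nat_lit 4, nat_lit 9, nat_lit 0, nat_lit 8, nat_lit 5, nat_lit 4, nat_lit 9, nat_lit 0, nat_lit 5, nat_lit 7, nat_lit 9, nat_lit 0, nat_lit 8, nat_lit 4, nat_lit 0] = true := by decide +kernel
theorem nc0 : nclS T Rl (nat_lit 8) B nx [nat_lit 0, nat_lit 4] (nat_lit 4) (nat_lit 0) = true := by decide +kernel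
theorem nc1 : nclS T Rl (nat_lit 8) B nx [nat_lit 5, nat_lit 1, nat_lit 6] (nat_lit 10) (nat_lit 1) = true := by decide +kernel
theorem nc2 : nclS T Rl (nat_lit 8) B nx [nat_lit 2, nat_lit 4] (nat_lit 4) (nat_lit 2) = true := by decide +kernel
theorem nc3 : nclS T Rl (nat_lit 8) B nx [nat_lit 0, nat_lit 3, nat_lit 1, nat_lit 5] (nat_lit 14) (nat_lit 3) = true := by decide +kernel
theorem nc4 : nclS T Rl (nat_lit 8) B nx [] (nat_lit 4) (nat_lit 4) = true := by decide +kernel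
theorem nc5 : nclS T Rl (nat_lit 8) B nx [nat_lit 0, nat_lit 7, nat_lit 5, nat_lit 3, nat_lit 1, nat_lit 7, nat_lit 0] (nat_lit 6) (nat_lit 5) = true := by decide +kernel
theorem nc6 : nclS T Rl (nat_lit 8) B nx [nat_lit 7, nat_lit 5] (nat_lit 32) (nat_lit 6) = true := by decide +kernel
theorem nc7 : nclS T Rl (nat_lit 8) B nx [nat_lit 6, nat_lit 0, nat_lit 5, nat_lit 2, nat_lit 4] (nat_lit 8) (nat_lit 7) = true := by decide +kernel
theorem ncx : powS T (nat_lit 8) B nx (nat_lit 31) = true ∧ Nat.Coprime 31 3753792 ∧ 1 < T.n := by decide +kernel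

end H16.PON
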