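import Cfsg.Agent.H16.S
import Cfsg.Agent.H16.P.ONB
import Cfsg.Agent.H16.P.ON.R0
import Cfsg.Agent.H16.P.ON.R1

/-! Generated by tools/h16 (computation kit). -/

set_option maxRecDepth 100000
set_option maxHeartbeats 0

namespace H16.PON

open H26 (jn)
noncomputable def n0 : H26.Net := H26.Net.cons (nat_lit 1) n0_0 (H26.Net.cons (nat_lit 2) n0_1 (H26.Net.cons (nat_lit 4) n0_2 (H26.Net.cons (nat_lit 8) n0_3 (H26.Net.cons (nat_lit 16) n0_4 (H26.Net.cons (nat_lit 32) n0_5 (H26.Net.cons (nat_lit 64) n0_6 (H26.Net.cons (nat_lit 128) n0_7 (H26.Net.cons (nat_lit 256) n0_8 (H26.Net.cons (nat_lit 512) n0_9 (H26.Net.cons (nat_lit 1024) n0_10 (H26.Net.cons (nat_lit 2048) n0_11 (H26.Net.cons (nat_lit 4096) n0_12 (H26.Net.cons (nat_lit 8192) n0_13 (H26.Net.cons (nat_lit 16384) n0_14 (H26.Net.cons (nat_lit 32768) n0_15 (H26.Net.cons (nat_lit 65536) n0_16 (H26.Net.cons (nat_lit 32768)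 n0_17 (H26.Net.cons (nat_lit 16384) n0_18 (H26.Net.cons (nat_lit 8192) n0_19 (H26.Net.cons (nat_lit 4096) n0_20 (H26.Net.cons (nat_lit 2048) n0_21 (H26.Net.cons (nat_lit 1024) n0_22 (H26.Net.cons (nat_lit 512) n0_23 (H26.Net.cons (nat_lit 256) n0_24 (H26.Net.cons (nat_lit 128) n0_25 (H26.Net.cons (nat_lit 64) n0_26 (H26.Net.cons (nat_lit 32) n0_27 (H26.Net.cons (nat_lit 16) n0_28 (H26.Net.cons (nat_lit 8) n0_29 (H26.Net.cons (nat_lit 4) n0_30 (H26.Net.cons (nat_lit 2) n0_31 (H26.Net.cons (nat_lit 1) n0_32 (H26.Net.nil)))))))))))))))))))))))))))))))))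
noncomputable def n1 : H26.Net := H26.Net.cons (nat_lit 1) n1_0 (H26.Net.cons (nat_lit 2) n1_1 (H26.Net.cons (nat_lit 4) n1_2 (H26.Net.cons (nat_lit 8) n1_3 (H26.Net.cons (nat_lit 16) n1_4 (H26.Net.cons (nat_lit 32) n1_5 (H26.Net.cons (nat_lit 64) n1_6 (H26.Net.cons (nat_lit 128) n1_7 (H26.Net.cons (nat_lit 256) n1_8 (H26.Net.cons (nat_lit 512) n1_9 (H26.Net.cons (nat_lit 1024) n1_10 (H26.Net.cons (nat_lit 2048) n1_11 (H26.Net.cons (nat_lit 4096) n1_12 (H26.Net.cons (nat_lit 8192) n1_13 (H26.Net.cons (nat_lit 16384) n1_14 (H26.Net.cons (nat_lit 32768) n1_15 (H26.Net.cons (nat_lit 65536) n1_16 (H26.Net.cons (nat_lit 32768) n1_17 (H26.Net.cons (nat_lit 16384) n1_18 (H26.Net.cons (nat_lit 8192) n1_19 (H26.Net.cons (nat_lit 4096) n1_20 (H26.Net.cons (nat_lit 2048) n1_21 (H26.Net.cons (nat_lit 1024) n1_22 (H26.Net.cons (nat_lit 512) n1_23 (H26.Net.cons (nat_lit 256) n1_24 (H26.Net.cons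 (nat_lit 128) n1_25 (H26.Net.cons (nat_lit 64) n1_26 (H26.Net.cons (nat_lit 32) n1_27 (H26.Net.cons (nat_lit 16) n1_28 (H26.Net.cons (nat_lit 8) n1_29 (H26.Net.cons (nat_lit 4) n1_30 (H26.Net.cons (nat_lit 2) n1_31 (H26.Net.cons (nat_lit 1) n1_32 (H26.Net.nil)))))))))))))))))))))))))))))))))
noncomputable def n2 : H26.Net := H26.Net.cons (nat_lit 1) n2_0 (H26.Net.cons (nat_lit 2) n2_1 (H26.Net.cons (nat_lit 4) n2_2 (H26.Net.cons (nat_lit 8) n2_3 (H26.Net.cons (nat_lit 16) n2_4 (H26.Net.cons (nat_lit 32) n2_5 (H26.Net.cons (nat_lit 64) n2_6 (H26.Net.cons (nat_lit 128) n2_7 (H26.Net.cons (nat_lit 256) n2_8 (H26.Net.cons (nat_lit 512) n2_9 (H26.Net.cons (nat_lit 1024) n2_10 (H26.Net.cons (nat_lit 2048) n2_11 (H26.Net.cons (nat_lit 4096) n2_12 (H26.Net.cons (nat_lit 8192) n2_13 (H26.Net.cons (nat_lit 16384) n2_14 (H26.Net.cons (nat_lit 32768) n2_15 (H26.Net.cons (nat_lit 65536)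 n2_16 (H26.Net.cons (nat_lit 32768) n2_17 (H26.Net.cons (nat_lit 16384) n2_18 (H26.Net.cons (nat_lit 8192) n2_19 (H26.Net.cons (nat_lit 4096) n2_20 (H26.Net.cons (nat_lit 2048) n2_21 (H26.Net.cons (nat_lit 1024) n2_22 (H26.Net.cons (nat_lit 512) n2_23 (H26.Net.cons (nat_lit 256) n2_24 (H26.Net.cons (nat_lit 128) n2_25 (H26.Net.cons (nat_lit 64) n2_26 (H26.Net.cons (nat_lit 32) n2_27 (H26.Net.cons (nat_lit 16) n2_28 (H26.Net.cons (nat_lit 8) n2_29 (H26.Net.cons (nat_lit 4) n2_30 (H26.Net.cons (nat_lit 2) n2_31 (H26.Net.cons (nat_lit 1) n2_32 (H26.Net.nil)))))))))))))))))))))))))))))))))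
noncomputable def n3 : H26.Net := H26.Net.cons (nat_lit 1) n3_0 (H26.Net.cons (nat_lit 2) n3_1 (H26.Net.cons (nat_lit 4) n3_2 (H26.Net.cons (nat_lit 8) n3_3 (H26.Net.cons (nat_lit 16) n3_4 (H26.Net.cons (nat_lit 32) n3_5 (H26.Net.cons (nat_lit 64) n3_6 (H26.Net.cons (nat_lit 128) n3_7 (H26.Net.cons (nat_lit 256) n3_8 (H26.Net.cons (nat_lit 512) n3_9 (H26.Net.cons (nat_lit 1024) n3_10 (H26.Net.cons (nat_lit 2048) n3_11 (H26.Net.cons (nat_lit 4096) n3_12 (H26.Net.cons (nat_lit 8192) n3_13 (H26.Net.cons (nat_lit 16384) n3_14 (H26.Net.cons (nat_lit 32768) n3_15 (H26.Net.cons (nat_lit 65536) n3_16 (H26.Net.cons (nat_lit 32768) n3_17 (H26.Net.cons (nat_lit 16384) n3_18 (H26.Net.cons (nat_lit 8192) n3_19 (H26.Net.cons (nat_lit 4096) n3_20 (H26.Net.cons (nat_lit 2048) n3_21 (H26.Net.cons (nat_lit 1024) n3_22 (H26.Net.cons (nat_lit 512) n3_23 (H26.Net.cons (nat_lit 256) n3_24 (H26.Net.cons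 (nat_lit 128) n3_25 (H26.Net.cons (nat_lit 64) n3_26 (H26.Net.cons (nat_lit 32) n3_27 (H26.Net.cons (nat_lit 16) n3_28 (H26.Net.cons (nat_lit 8) n3_29 (H26.Net.cons (nat_lit 4) n3_30 (H26.Net.cons (nat_lit 2) n3_31 (H26.Net.cons (nat_lit 1) n3_32 (H26.Net.nil)))))))))))))))))))))))))))))))))
noncomputable def n4 : H26.Net := H26.Net.cons (nat_lit 1) n4_0 (H26.Net.cons (nat_lit 2) n4_1 (H26.Net.cons (nat_lit 4) n4_2 (H26.Net.cons (nat_lit 8) n4_3 (H26.Net.cons (nat_lit 16) n4_4 (H26.Net.cons (nat_lit 32) n4_5 (H26.Net.cons (nat_lit 64) n4_6 (H26.Net.cons (nat_lit 128) n4_7 (H26.Net.cons (nat_lit 256) n4_8 (H26.Net.cons (nat_lit 512) n4_9 (H26.Net.cons (nat_lit 1024) n4_10 (H26.Net.cons (nat_lit 2048) n4_11 (H26.Net.cons (nat_lit 4096) n4_12 (H26.Net.cons (nat_lit 8192) n4_13 (H26.Net.cons (nat_lit 16384) n4_14 (H26.Net.cons (nat_lit 32768) n4_15 (H26.Net.cons (nat_lit 65536)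 n4_16 (H26.Net.cons (nat_lit 32768) n4_17 (H26.Net.cons (nat_lit 16384) n4_18 (H26.Net.cons (nat_lit 8192) n4_19 (H26.Net.cons (nat_lit 4096) n4_20 (H26.Net.cons (nat_lit 2048) n4_21 (H26.Net.cons (nat_lit 1024) n4_22 (H26.Net.cons (nat_lit 512) n4_23 (H26.Net.cons (nat_lit 256) n4_24 (H26.Net.cons (nat_lit 128) n4_25 (H26.Net.cons (nat_lit 64) n4_26 (H26.Net.cons (nat_lit 32) n4_27 (H26.Net.cons (nat_lit 16) n4_28 (H26.Net.cons (nat_lit 8) n4_29 (H26.Net.cons (nat_lit 4) n4_30 (H26.Net.cons (nat_lit 2) n4_31 (H26.Net.cons (nat_lit 1) n4_32 (H26.Net.nil)))))))))))))))))))))))))))))))))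
noncomputable def n5 : H26.Net := H26.Net.cons (nat_lit 1) n5_0 (H26.Net.cons (nat_lit 2) n5_1 (H26.Net.cons (nat_lit 4) n5_2 (H26.Net.cons (nat_lit 8) n5_3 (H26.Net.cons (nat_lit 16) n5_4 (H26.Net.cons (nat_lit 32) n5_5 (H26.Net.cons (nat_lit 64) n5_6 (H26.Net.cons (nat_lit 128) n5_7 (H26.Net.cons (nat_lit 256) n5_8 (H26.Net.cons (nat_lit 512) n5_9 (H26.Net.cons (nat_lit 1024) n5_10 (H26.Net.cons (nat_lit 2048) n5_11 (H26.Net.cons (nat_lit 4096) n5_12 (H26.Net.cons (nat_lit 8192) n5_13 (H26.Net.cons (nat_lit 16384) n5_14 (H26.Net.cons (nat_lit 32768) n5_15 (H26.Net.cons (nat_lit 65536) n5_16 (H26.Net.cons (nat_lit 32768) n5_17 (H26.Net.cons (nat_lit 16384) n5_18 (H26.Net.cons (nat_lit 8192) n5_19 (H26.Net.cons (nat_lit 4096) n5_20 (H26.Net.cons (nat_lit 2048) n5_21 (H26.Net.cons (nat_lit 1024) n5_22 (H26.Net.cons (nat_lit 512) n5_23 (H26.Net.cons (nat_lit 256) n5_24 (H26.Net.cons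 (nat_lit 128) n5_25 (H26.Net.cons (nat_lit 64) n5_26 (H26.Net.cons (nat_lit 32) n5_27 (H26.Net.cons (nat_lit 16) n5_28 (H26.Net.cons (nat_lit 8) n5_29 (H26.Net.cons (nat_lit 4) n5_30 (H26.Net.cons (nat_lit 2) n5_31 (H26.Net.cons (nat_lit 1) n5_32 (H26.Net.nil)))))))))))))))))))))))))))))))))
noncomputable def n6 : H26.Net := H26.Net.cons (nat_lit 1) n6_0 (H26.Net.cons (nat_lit 2) n6_1 (H26.Net.cons (nat_lit 4) n6_2 (H26.Net.cons (nat_lit 8) n6_3 (H26.Net.cons (nat_lit 16) n6_4 (H26.Net.cons (nat_lit 32) n6_5 (H26.Net.cons (nat_lit 64) n6_6 (H26.Net.cons (nat_lit 128) n6_7 (H26.Net.cons (nat_lit 256) n6_8 (H26.Net.cons (nat_lit 512) n6_9 (H26.Net.cons (nat_lit 1024) n6_10 (H26.Net.cons (nat_lit 2048) n6_11 (H26.Net.cons (nat_lit 4096) n6_12 (H26.Net.cons (nat_lit 8192) n6_13 (H26.Net.cons (nat_lit 16384) n6_14 (H26.Net.cons (nat_lit 32768) n6_15 (H26.Net.cons (nat_lit 65536)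 n6_16 (H26.Net.cons (nat_lit 32768) n6_17 (H26.Net.cons (nat_lit 16384) n6_18 (H26.Net.cons (nat_lit 8192) n6_19 (H26.Net.cons (nat_lit 4096) n6_20 (H26.Net.cons (nat_lit 2048) n6_21 (H26.Net.cons (nat_lit 1024) n6_22 (H26.Net.cons (nat_lit 512) n6_23 (H26.Net.cons (nat_lit 256) n6_24 (H26.Net.cons (nat_lit 128) n6_25 (H26.Net.cons (nat_lit 64) n6_26 (H26.Net.cons (nat_lit 32) n6_27 (H26.Net.cons (nat_lit 16) n6_28 (H26.Net.cons (nat_lit 8) n6_29 (H26.Net.cons (nat_lit 4) n6_30 (H26.Net.cons (nat_lit 2) n6_31 (H26.Net.cons (nat_lit 1) n6_32 (H26.Net.nil)))))))))))))))))))))))))))))))))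
noncomputable def n7 : H26.Net := n6.rev
noncomputable def T : H26.Tab := ⟨(nat_lit 122760), [n0, n1, n2, n3, n4, n5, n6, n7]⟩
noncomputable def W1 : List (List ℕ) := [[nat_lit 5, nat_lit 1, nat_lit 0, nat_lit 1, nat_lit 5, nat_lit 0, nat_lit 1, nat_lit 0, nat_lit 1, nat_lit 5],
  [nat_lit 0, nat_lit 1],
  [nat_lit 1, nat_lit 0],
  [nat_lit 0],
  [nat_lit 1],
  [nat_lit 2],
  [nat_lit 3],
  [nat_lit 4],
  [nat_lit 5]]
noncomputable def B : List ℕ := [nat_lit 0, nat_lit 299, nat_lit 94721, nat_lit 9]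
noncomputable def nx : List ℕ := [nat_lit 1, nat_lit 0, nat_lit 7, nat_lit 5, nat_lit 4]

end H16.PON
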